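import Cfsg.Agent.H306.RIM.Tool
import Cfsg.Agent.H121.K6.HS
import Cfsg.Agent.H904.HSIso
import Cfsg.Agent.S2046

/-!
# S4816: the rows `HS`, `p = 7, 11` (helper306)

Eight classes of elements of odd order: 1, 3, 5A, 5B, 5C, 7, 11A, 11B.
-/

set_option autoImplicit false

namespace Cfsg.Agent.H306.RIM.HS

open Cfsg Subgroup Cfsg.Agent.H665.RIM Cfsg.Agent.H121.K6.HS Cfsg.Agent.HN.HS100 Cfsg.Agent.HN.AutHS
open Cfsg.Agent.HN.AutBound Equiv

universe u

variable {S : Type u} [Group S]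

def ords : Fin 8 → ℕ := ![1, 3, 5, 5, 5, 7, 11, 11]

theorem ords_eq : ∀ i j : Fin 8, ords i = ords j → i ≠ j →
    (i = 2 ∧ j = 3) ∨ (i = 3 ∧ j = 2) ∨ (i = 2 ∧ j = 4) ∨ (i = 4 ∧ j = 2) ∨ (i = 3 ∧ j = 4) ∨ (i = 4 ∧ j = 3) ∨
      (i = 6 ∧ j = 7) ∨ (i = 7 ∧ j = 6) := by
  decide

theorem ords_cop : ∀ i : Fin 8, (ords i).Coprime 2 := by decide

theorem aj_of_isConj {x y : Q} (h : IsConj x y) : aj (x : Perm (Fin 100)) = aj (y : Perm (Fin 100)) := by
  obtain ⟨g, hg⟩ := isConj_iff.1 h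
  rw [← hg]
  exact (aj_conj (Q_le g.2) (x : Perm (Fin 100))).symm

theorem order_eA : orderOf eA = 5 := by
  have h5 : Fact (Nat.Prime 5) := ⟨Nat.prime_five⟩
  refine orderOf_eq_prime (Subtype.ext pxA) fun h => ?_
  have h1 : aj (eA : Perm (Fin 100)) = 50 := ajA
  have h2 : aj (1 : Perm (Fin 100)) = 0 := by
    unfold aj
    rw [Finset.card_eq_zero, Finset.filter_eq_empty_iff]
    intro i _
    rw [Perm.one_apply, Cfsg.Agent.HN.SrgHS.ad_self]
    norm_num
  rw [h, OneMemClass.coe_one, h2] at h1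
  norm_num at h1

theorem order_eC : orderOf eC = 5 := by
  have h5 : Fact (Nat.Prime 5) := ⟨Nat.prime_five⟩
  refine orderOf_eq_prime (Subtype.ext pxC) fun h => ?_
  have h1 : aj (eC : Perm (Fin 100)) = 10 := ajC
  have h2 : aj (1 : Perm (Fin 100)) = 0 := by
    unfold aj
    rw [Finset.card_eq_zero, Finset.filter_eq_empty_iff]
    intro i _
    rw [Perm.one_apply, Cfsg.Agent.HN.SrgHS.ad_self]
    norm_num
  rw [h, OneMemClass.coe_one, h2] at h1
  norm_num at h1

theorem order_eB : orderOf eB = 5 := by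
  have h5 : Fact (Nat.Prime 5) := ⟨Nat.prime_five⟩
  refine orderOf_eq_prime (Subtype.ext pxB) fun h => ?_
  have h0 : PxB = 1 := congrArg Subtype.val h
  have h1 := congrArg (fun g : Perm (Fin 100) => ((g 0 : Fin 100) : ℕ)) h0
  revert h1
  decide +kernel

theorem exists_elts [Finite S] (h : Spor.IsoHS S) :
    ∃ g : Fin 8 → S, (∀ i, orderOf (g i) = ords i) ∧ (∀ i j, IsConj (g i) (g j) → i = j) := by
  have h' := h
  obtain ⟨e⟩ := h'
  obtain ⟨f⟩ := nonempty_Q.1
  let φ : Q ≃* S := f.trans e.symm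
  have hcard : Nat.card S = 44352000 := by rw [← Nat.card_congr φ.toEquiv, card_Q]
  have f3 := Fact.mk Nat.prime_three
  have f7 : Fact (Nat.Prime 7) := ⟨by norm_num⟩
  have f11 : Fact (Nat.Prime 11) := ⟨by norm_num⟩
  obtain ⟨u, hu⟩ := exists_prime_orderOf_dvd_card' (G := S) 3 (by rw [hcard]; norm_num)
  obtain ⟨a, ha⟩ := exists_prime_orderOf_dvd_card' (G := S) 7 (by rw [hcard]; norm_num)
  obtain ⟨b, hb⟩ := exists_prime_orderOf_dvd_card' (G := S) 11 (by rw [hcard]; norm_num)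
  have hb2 : orderOf (b ^ 2) = 11 := ord_pow hb (by norm_num)
  have nb : ¬ IsConj b (b ^ 2) := by
    have h2 := (Cfsg.Agent.H904.TwoHS.eleven h)
    obtain ⟨-, -, H⟩ := h2
    have h3 := H (zpowers b) (by rw [Nat.card_zpowers, hb])
    exact not_conj hb (e := 5) (by rw [Cfsg.Agent.H904.HSIso.card_eleven h hb, h3.2]) (by norm_num)
  have hφ : ∀ {x y : Q}, IsConj (φ x) (φ y) → aj (x : Perm (Fin 100)) = aj (y : Perm (Fin 100)) := by
    intro x y hxy
    have h1 := φ.symm.toMonoidHom.map_isConj hxy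
    exact aj_of_isConj (by simpa using h1)
  have hAB : ¬ IsConj (φ eA) (φ eB) := by
    intro h1
    have h2 := hφ h1
    have h3 : aj (eA : Perm (Fin 100)) = 50 := ajA
    have h4 : aj (eB : Perm (Fin 100)) = 0 := ajB
    omega
  have hAC : ¬ IsConj (φ eA) (φ eC) := by
    intro h1
    have h2 := hφ h1
    have h3 : aj (eA : Perm (Fin 100)) = 50 := ajA
    have h4 : aj (eC : Perm (Fin 100)) = 10 := ajC
    omega
  have hBC : ¬ IsConj (φ eB) (φ eC) := by
    intro h1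
    have h2 := hφ h1
    have h3 : aj (eB : Perm (Fin 100)) = 0 := ajB
    have h4 : aj (eC : Perm (Fin 100)) = 10 := ajC
    omega
  have hoφ : ∀ x : Q, orderOf (φ x) = orderOf x := fun x => orderOf_injective φ.toMonoidHom φ.injective x
  let g : Fin 8 → S := ![1, u, φ eA, φ eB, φ eC, a, b, b ^ 2]
  have ho : ∀ i, orderOf (g i) = ords i := by
    intro i
    fin_cases i
    · exact orderOf_one
    · exact hu
    · exact (hoφ _).trans order_eA
    · exact (hoφ _).trans order_eB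
    · exact (hoφ _).trans order_eC
    · exact ha
    · exact hb
    · exact hb2
  refine ⟨g, ho, fun i j hij => ?_⟩
  by_contra hne
  have h1 := order_isConj hij
  rw [ho, ho] at h1
  rcases ords_eq i j h1 hne with ⟨rfl, rfl⟩ | ⟨rfl, rfl⟩ | ⟨rfl, rfl⟩ | ⟨rfl, rfl⟩ | ⟨rfl, rfl⟩ | ⟨rfl, rfl⟩ | ⟨rfl, rfl⟩ |
    ⟨rfl, rfl⟩
  · exact hAB hij
  · exact hAB hij.symm
  · exact hAC hij
  · exact hAC hij.symm
  · exact hBC hij
  · exact hBC hij.symm
  · exact nb hij
  · exact nb hij.symm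

/-- the multiplier is 2 -/
theorem nball_of_two (h : Spor.IsoHS S) {p : ℕ} (H : NB p 2 S) : NBall p S := by
  intro m hm _ E _ _ π hπ hc hE hk l hl
  obtain ⟨e⟩ := h
  have h1 := ker_dvd Cfsg.Agent.S2046.result e π hπ hc hE
  rw [hk] at h1
  have h3 : m = 2 := by
    rcases (Nat.dvd_prime Nat.prime_two).1 h1 with h2 | h2 <;> omega
  subst h3
  exact H E π hπ hc hE hk l hl

/-- **`HS`, `p = 7`** -/
theorem nball_seven [Finite S] (h : Spor.IsoHS S) : NBall 7 S := by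
  have hcard : Nat.card S = 44352000 := KFacts.HS.card h
  have f7 : Fact (Nat.Prime 7) := ⟨by norm_num⟩
  obtain ⟨a, ha⟩ := exists_prime_orderOf_dvd_card' (G := S) 7 (by rw [hcard]; norm_num)
  obtain ⟨g, ho, hg⟩ := exists_elts h
  have h2 := Cfsg.Agent.H904.TwoHS.seven h (zpowers a) (by rw [Nat.card_zpowers, ha])
  refine nball_of_two h (nb_of_dz (by norm_num) (by rw [hcard]; norm_num) ha (k := 1) (w := 6) ?_ ?_ g
    (fun i => by rw [ho]; exact ords_cop i) hg (by norm_num))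
  · rw [Cfsg.Agent.H904.HSIso.card_seven h ha]
  · rw [h2.2]

/-- **`HS`, `p = 11`** -/
theorem nball_eleven [Finite S] (h : Spor.IsoHS S) : NBall 11 S := by
  have hcard : Nat.card S = 44352000 := KFacts.HS.card h
  have f11 : Fact (Nat.Prime 11) := ⟨by norm_num⟩
  obtain ⟨b, hb⟩ := exists_prime_orderOf_dvd_card' (G := S) 11 (by rw [hcard]; norm_num)
  obtain ⟨g, ho, hg⟩ := exists_elts h
  obtain ⟨-, -, H⟩ := Cfsg.Agent.H904.TwoHS.eleven h
  have h2 := H (zpowers b) (by rw [Nat.card_zpowers, hb])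
  refine nball_of_two h (nb_of_dz (by norm_num) (by rw [hcard]; norm_num) hb (k := 1) (w := 5) ?_ ?_ g
    (fun i => by rw [ho]; exact ords_cop i) hg (by norm_num))
  · rw [Cfsg.Agent.H904.HSIso.card_eleven h hb]
  · rw [h2.2]

end Cfsg.Agent.H306.RIM.HS
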