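import Cfsg.Agent.H306.RIM.Tool
import Cfsg.Agent.H417.JThreeCols
import Cfsg.Agent.H153.RM.J23
import Cfsg.Agent.S2041

/-!
# S4816: the rows `J3`, `p = 17, 19` (helper306)
-/

set_option autoImplicit false

namespace Cfsg.Agent.H306.RIM.JThree

open Cfsg Subgroup Cfsg.Agent.H665.RIM
open Cfsg.Agent.J3Type.CodeGroup Cfsg.Agent.J3Type.CharOrder

universe u

variable {S : Type u} [Group S]

def ords : Fin 12 → ℕ := ![1, 2, 4, 8, 10, 10, 5, 5, 17, 17, 19, 19]

theorem ords_eq : ∀ i j : Fin 12, ords i = ords j → i ≠ j →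
    (i = 4 ∧ j = 5) ∨ (i = 5 ∧ j = 4) ∨ (i = 6 ∧ j = 7) ∨ (i = 7 ∧ j = 6) ∨ (i = 8 ∧ j = 9) ∨ (i = 9 ∧ j = 8) ∨
      (i = 10 ∧ j = 11) ∨ (i = 11 ∧ j = 10) := by
  decide

theorem ords_cop : ∀ i : Fin 12, (ords i).Coprime 3 := by decide

theorem exists_elts [Finite S] (h : Spor.IsoJ3 S) :
    ∃ g : Fin 12 → S, (∀ i, orderOf (g i) = ords i) ∧ (∀ i j, IsConj (g i) (g j) → i = j) := by
  obtain ⟨t, D, hD, hall⟩ := Cfsg.Agent.H417.JThreeCols.exists_coded_iso h
  have hcard := (Cfsg.Agent.H898.J3Cent.base h).2.1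
  have f5 := Fact.mk Nat.prime_five
  have f17 : Fact (Nat.Prime 17) := ⟨by norm_num⟩
  have f19 : Fact (Nat.Prime 19) := ⟨by norm_num⟩
  obtain ⟨u, hu⟩ := exists_prime_orderOf_dvd_card' (G := S) 5 (by rw [hcard]; norm_num)
  obtain ⟨a, ha⟩ := exists_prime_orderOf_dvd_card' (G := S) 17 (by rw [hcard]; norm_num)
  obtain ⟨b, hb⟩ := exists_prime_orderOf_dvd_card' (G := S) 19 (by rw [hcard]; norm_num)
  have hu2 : orderOf (u ^ 2) = 5 := ord_pow hu (by norm_num)
  have ha3 : orderOf (a ^ 3) = 17 := ord_pow ha (by norm_num)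
  have hb2 : orderOf (b ^ 2) = 19 := ord_pow hb (by norm_num)
  have cu := Cfsg.Agent.H153.RM.j3_five h hu
  have nu : ¬ IsConj u (u ^ 2) := by
    obtain ⟨e, he, hN, hi, hc⟩ := H306.QA.exists_card_normalizer' Nat.prime_five hu (by rw [hcard]; norm_num)
    have he' : e ≤ 4 := Nat.le_of_dvd (by norm_num) he
    rw [cu, hcard] at hc
    set s := (normalizer ((zpowers u : Subgroup S) : Set S)).index with hs
    have h2 : e * s = 1674432 := by
      have h4 : 30 * (e * s) = 50232960 := by rw [← hc]; ring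
      omega
    have h3 : (e * (s % 5)) % 5 = 2 := by rw [Nat.mul_mod_mod, h2]
    rw [hi, mul_one] at h3
    have h4 : e = 2 := by omega
    subst h4
    exact not_conj hu (e := 2) hN (by norm_num)
  have na : ¬ IsConj a (a ^ 3) := by
    have h2 := Cfsg.Agent.H898.J3Cent.seventeen h ha
    exact not_conj ha (e := 8) (by rw [h2.1, h2.2]) (by norm_num)
  have nb : ¬ IsConj b (b ^ 2) :=
    not_conj hb (e := 9) (by rw [Cfsg.Agent.H898.J3Cent.card_nineteen h hb,
      Cfsg.Agent.H898.J3Cent.card_normalizer_nineteen h hb]) (by norm_num)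
  let g : Fin 12 → S := ![1, t, D 1, D 97, D 528, D 1456, u, u ^ 2, a, a ^ 3, b, b ^ 2]
  have ho : ∀ i, orderOf (g i) = ords i := by
    intro i
    fin_cases i
    · exact orderOf_one
    · exact hD.t_order
    · exact hD.order4
    · exact hD.order8
    · exact hD.order10a
    · exact hD.order10b
    · exact hu
    · exact hu2
    · exact ha
    · exact ha3
    · exact hb
    · exact hb2
  refine ⟨g, ho, fun i j hij => ?_⟩
  by_contra hne
  have h1 := orderOf_conj' hij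
  rw [ho, ho] at h1
  rcases ords_eq i j h1 hne with ⟨rfl, rfl⟩ | ⟨rfl, rfl⟩ | ⟨rfl, rfl⟩ | ⟨rfl, rfl⟩ | ⟨rfl, rfl⟩ | ⟨rfl, rfl⟩ | ⟨rfl, rfl⟩ |
    ⟨rfl, rfl⟩
  · exact hD.not_conj hij
  · exact hD.not_conj hij.symm
  · exact nu hij
  · exact nu hij.symm
  · exact na hij
  · exact na hij.symm
  · exact nb hij
  · exact nb hij.symm

/-- the multiplier is 3 -/
theorem ker_dvd_three (h : Spor.IsoJ3 S) {E : Type u} [Group E] (π : E →* S) (hπ : Function.Surjective π)
    (hc : π.ker ≤ center E) (hE : commutator E = ⊤) : Nat.card π.ker ∣ 3 := by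
  obtain ⟨F, _, _, ω, hF, hω, ⟨e⟩⟩ := h
  exact ker_dvd (Cfsg.Agent.S2041.result hF ω hω) e π hπ hc hE

/-- reduction to `m = 3` -/
theorem nball_of_three (h : Spor.IsoJ3 S) {p : ℕ} (H : NB p 3 S) : NBall p S := by
  intro m hm _ E _ _ π hπ hc hE hk l hl
  have h1 := ker_dvd_three h π hπ hc hE
  rw [hk] at h1
  have h3 : m = 3 := by
    rcases (Nat.dvd_prime Nat.prime_three).1 h1 with h2 | h2 <;> omega
  subst h3
  exact H E π hπ hc hE hk l hl

/-- **`J3`, `p = 17`** -/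
theorem nball_seventeen [Finite S] (h : Spor.IsoJ3 S) : NBall 17 S := by
  have hcard := (Cfsg.Agent.H898.J3Cent.base h).2.1
  have f17 : Fact (Nat.Prime 17) := ⟨by norm_num⟩
  obtain ⟨a, ha⟩ := exists_prime_orderOf_dvd_card' (G := S) 17 (by rw [hcard]; norm_num)
  obtain ⟨g, ho, hg⟩ := exists_elts h
  have h2 := Cfsg.Agent.H898.J3Cent.seventeen h ha
  refine nball_of_three h (nb_of_dz (by norm_num) (by rw [hcard]; norm_num) ha (k := 1) (w := 8) ?_ ?_ g
    (fun i => by rw [ho]; exact ords_cop i) hg (by norm_num))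
  · rw [h2.1]
  · rw [h2.2]

/-- **`J3`, `p = 19`** -/
theorem nball_nineteen [Finite S] (h : Spor.IsoJ3 S) : NBall 19 S := by
  have hcard := (Cfsg.Agent.H898.J3Cent.base h).2.1
  have f19 : Fact (Nat.Prime 19) := ⟨by norm_num⟩
  obtain ⟨a, ha⟩ := exists_prime_orderOf_dvd_card' (G := S) 19 (by rw [hcard]; norm_num)
  obtain ⟨g, ho, hg⟩ := exists_elts h
  refine nball_of_three h (nb_of_dz (by norm_num) (by rw [hcard]; norm_num) ha (k := 1) (w := 9) ?_ ?_ g
    (fun i => by rw [ho]; exact ords_cop i) hg (by norm_num))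
  · rw [Cfsg.Agent.H898.J3Cent.card_nineteen h ha]
  · rw [Cfsg.Agent.H898.J3Cent.card_normalizer_nineteen h ha]

end Cfsg.Agent.H306.RIM.JThree
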