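import Cfsg.Agent.H306.RIM.Tool
import Cfsg.Agent.H121.K6.McL
import Cfsg.Agent.H904.McLCent
import Cfsg.Agent.H16.Rec.McLTab
import Cfsg.Agent.S2047

/-!
# S4816: the rows `McL`, `p = 7, 11` (helper306)

Eleven classes of elements of order prime to 3: 1, 2, 4, 8, 5A, 5B, 10, 7A, 11A, 11B and (if 7 is not real) 7B.
-/

set_option autoImplicit false

namespace Cfsg.Agent.H306.RIM.McL

open Cfsg Subgroup Cfsg.Agent.H665.RIM

universe u

variable {S : Type u} [Group S]

def ords : Fin 11 → ℕ := ![1, 2, 4, 8, 5, 5, 10, 7, 11, 11, 7]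

theorem ords_eq : ∀ i j : Fin 11, ords i = ords j → i ≠ j →
    (i = 4 ∧ j = 5) ∨ (i = 5 ∧ j = 4) ∨ (i = 8 ∧ j = 9) ∨ (i = 9 ∧ j = 8) ∨ (i = 7 ∧ j = 10) ∨ (i = 10 ∧ j = 7) := by
  decide

theorem ords_cop : ∀ i : Fin 11, (ords i).Coprime 3 := by decide

section eight

open Cfsg.Agent.H904.McLCent Cfsg.Agent.H16.Rec.McLTab Cfsg.Agent.SporadicA.PermTab Equiv

variable {θ : S →* Perm (Fin 275)}

theorem eight_of_rep (R : Rep S θ) : ∃ c : S, orderOf c = 8 := by
  obtain ⟨a, ha⟩ := R.exists_of in_t8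
  refine ⟨a, ?_⟩
  have : Fact (Nat.Prime 2) := ⟨by norm_num⟩
  have h1 : orderOf a = 2 ^ (2 + 1) := by
    apply orderOf_eq_prime_pow
    · intro h2
      have key : ∀ i : Fin 275, (lk t8)^[4] i = i := by
        intro i
        have h3 := pow_val ha 4 i
        have h4 : θ a ^ 4 = 1 := by rw [← map_pow, show (4 : ℕ) = 2 ^ 2 from rfl, h2, map_one]
        rw [h4, Perm.one_apply] at h3
        exact h3.symm
      revert key
      decide +kernel
    · apply R.inj
      rw [map_pow, map_one]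
      refine Equiv.ext fun i => Fin.ext ?_
      rw [pow_val ha, Perm.one_apply]
      exact Nat.eq_of_beq_eq_true ((allB_iff _ _).1 rel_8 i i.2)
  exact h1

end eight

theorem exists_eight (h : Spor.IsoMcL S) : ∃ c : S, orderOf c = 8 := by
  obtain ⟨θ, R⟩ := Cfsg.Agent.H904.McLCent.exists_rep h
  exact eight_of_rep R

theorem card_cent_isConj {G : Type*} [Group G] {x y : G} (h : IsConj x y) :
    Nat.card (centralizer ({x} : Set G)) = Nat.card (centralizer ({y} : Set G)) := by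
  obtain ⟨c, rfl⟩ := isConj_iff.1 h
  refine Nat.card_congr ((MulAut.conj c).toEquiv.subtypeEquiv fun z => ?_)
  rw [mem_centralizer_singleton_iff, mem_centralizer_singleton_iff]
  show _ ↔ c * z * c⁻¹ * (c * x * c⁻¹) = c * x * c⁻¹ * (c * z * c⁻¹)
  constructor
  · intro h1
    calc c * z * c⁻¹ * (c * x * c⁻¹) = c * (z * x) * c⁻¹ := by group
      _ = c * (x * z) * c⁻¹ := by rw [h1]
      _ = _ := by group
  · intro h1
    have h2 : c * (z * x) * c⁻¹ = c * (x * z) * c⁻¹ := by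
      calc c * (z * x) * c⁻¹ = c * z * c⁻¹ * (c * x * c⁻¹) := by group
        _ = c * x * c⁻¹ * (c * z * c⁻¹) := h1
        _ = _ := by group
    exact mul_left_cancel (mul_right_cancel h2)

section five

open Cfsg.Agent.H121.K6.McL Cfsg.Agent.H686.Odd.McL Cfsg.Agent.H58.McLOdd Cfsg.Agent.McLType.Model
open Cfsg.Agent.McLType.X275

theorem not_isConj_a_c : ¬ IsConj a c := by
  intro h
  have h1 := card_cent_isConj h
  have h2 := card_a
  rcases card_c with h3 | h3 <;> omega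

/-- two classes of elements of order 5, and an element of order 10 -/
theorem exists_five (h : Spor.IsoMcL S) : ∃ x y z : S, orderOf x = 5 ∧ orderOf y = 5 ∧ orderOf z = 10 ∧ ¬ IsConj x y := by
  obtain ⟨e⟩ := h
  obtain ⟨f⟩ := isoMcL_G1
  let φ : G1 ≃* S := f.trans e.symm
  have hoφ : ∀ x : G1, orderOf (φ x) = orderOf x := fun x => orderOf_injective φ.toMonoidHom φ.injective x
  have h10 : orderOf (c * s ^ 3) = 10 := by
    have hs : orderOf (s ^ 3) = 2 := by
      rw [orderOf_pow, order_s]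
      rfl
    have hc : Commute c (s ^ 3) := Commute.pow_right (Commute.symm sc) 3
    rw [hc.orderOf_mul_eq_mul_orderOf_of_coprime (by rw [order_c, hs]; norm_num), order_c, hs]
  refine ⟨φ a, φ c, φ (c * s ^ 3), by rw [hoφ, order_a], by rw [hoφ, order_c], by rw [hoφ, h10], ?_⟩
  intro h1
  have h2 := φ.symm.toMonoidHom.map_isConj h1
  exact not_isConj_a_c (by simpa using h2)

end five

theorem exists_elts [Finite S] (h : Spor.IsoMcL S) :
    ∃ g : Fin 11 → S, (∀ i, orderOf (g i) = ords i) ∧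
      (∀ i j, IsConj (g i) (g j) → i = j ∨ (i = 7 ∧ j = 10) ∨ (i = 10 ∧ j = 7)) ∧ g 10 = g 7 ^ 6 := by
  have hcard := Cfsg.Agent.H904.McLCent.card_L h
  have f7 : Fact (Nat.Prime 7) := ⟨by norm_num⟩
  have f11 : Fact (Nat.Prime 11) := ⟨by norm_num⟩
  obtain ⟨a, ha⟩ := exists_prime_orderOf_dvd_card' (G := S) 7 (by rw [hcard]; norm_num)
  obtain ⟨b, hb⟩ := exists_prime_orderOf_dvd_card' (G := S) 11 (by rw [hcard]; norm_num)
  obtain ⟨w, hw⟩ := exists_eight h
  obtain ⟨x, y, z, hx, hy, hz, hxy⟩ := exists_five h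
  have hb2 : orderOf (b ^ 2) = 11 := ord_pow hb (by norm_num)
  have ha6 : orderOf (a ^ 6) = 7 := ord_pow ha (by norm_num)
  have hw2 : orderOf (w ^ 2) = 4 := by rw [orderOf_pow, hw]; rfl
  have hw4 : orderOf (w ^ 4) = 2 := by rw [orderOf_pow, hw]; rfl
  have nb : ¬ IsConj b (b ^ 2) := by
    have h3 := Cfsg.Agent.H904.McLCent.eleven h (zpowers b) (by rw [Nat.card_zpowers, hb])
    refine not_conj hb (e := 5) ?_ (by norm_num)
    rw [← Cfsg.Agent.H904.SylOne.centralizer_zpowers_eq, h3.1, h3.2]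
  let g : Fin 11 → S := ![1, w ^ 4, w ^ 2, w, x, y, z, a, b, b ^ 2, a ^ 6]
  have ho : ∀ i, orderOf (g i) = ords i := by
    intro i
    fin_cases i
    · exact orderOf_one
    · exact hw4
    · exact hw2
    · exact hw
    · exact hx
    · exact hy
    · exact hz
    · exact ha
    · exact hb
    · exact hb2
    · exact ha6
  refine ⟨g, ho, fun i j hij => ?_, rfl⟩
  by_cases hne : i = j
  · exact Or.inl hne
  have h1 := order_isConj hij
  rw [ho, ho] at h1
  rcases ords_eq i j h1 hne with ⟨rfl, rfl⟩ | ⟨rfl, rfl⟩ | ⟨rfl, rfl⟩ | ⟨rfl, rfl⟩ | h2 | h2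
  · exact absurd hij hxy
  · exact absurd hij.symm hxy
  · exact absurd hij nb
  · exact absurd hij.symm nb
  · exact Or.inr (Or.inl h2)
  · exact Or.inr (Or.inr h2)

/-- the multiplier is 3 -/
theorem nball_of_three (h : Spor.IsoMcL S) {p : ℕ} (H : NB p 3 S) : NBall p S := by
  intro m hm _ E _ _ π hπ hc hE hk l hl
  obtain ⟨e⟩ := h
  have h1 := ker_dvd Cfsg.Agent.S2047.result e π hπ hc hE
  rw [hk] at h1
  have h3 : m = 3 := by
    rcases (Nat.dvd_prime Nat.prime_three).1 h1 with h2 | h2 <;> omega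
  subst h3
  exact H E π hπ hc hE hk l hl

theorem castSucc_ne : ∀ i : Fin 10, i.castSucc ≠ (10 : Fin 11) := by decide

/-- the first ten elements -/
theorem ten_inj {g : Fin 11 → S} (H : ∀ i j, IsConj (g i) (g j) → i = j ∨ (i = 7 ∧ j = 10) ∨ (i = 10 ∧ j = 7)) :
    ∀ i j : Fin 10, IsConj (g i.castSucc) (g j.castSucc) → i = j := by
  intro i j hij
  have h1 := H _ _ hij
  rcases h1 with h1 | ⟨-, h1⟩ | ⟨h1, -⟩
  · exact Fin.castSucc_injective _ h1
  · exact absurd h1 (castSucc_ne j)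
  · exact absurd h1 (castSucc_ne i)

/-- **`McL`, `p = 11`** -/
theorem nball_eleven [Finite S] (h : Spor.IsoMcL S) : NBall 11 S := by
  have hcard := Cfsg.Agent.H904.McLCent.card_L h
  have f11 : Fact (Nat.Prime 11) := ⟨by norm_num⟩
  obtain ⟨b, hb⟩ := exists_prime_orderOf_dvd_card' (G := S) 11 (by rw [hcard]; norm_num)
  obtain ⟨g, ho, hg, -⟩ := exists_elts h
  have h2 := Cfsg.Agent.H904.McLCent.eleven h (zpowers b) (by rw [Nat.card_zpowers, hb])
  refine nball_of_three h (nb_of_dz (by norm_num) (by rw [hcard]; norm_num) hb (k := 1) (w := 5) ?_ ?_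
    (fun i : Fin 10 => g i.castSucc) (fun i => by rw [ho]; exact ords_cop _) (ten_inj hg) (by norm_num))
  · rw [← Cfsg.Agent.H904.SylOne.centralizer_zpowers_eq, h2.1]
  · rw [h2.2]

/-- **`McL`, `p = 7`** -/
theorem nball_seven [Finite S] (h : Spor.IsoMcL S) : NBall 7 S := by
  have hcard := Cfsg.Agent.H904.McLCent.card_L h
  have f7 : Fact (Nat.Prime 7) := ⟨by norm_num⟩
  obtain ⟨g, ho, hg, h10⟩ := exists_elts h
  have ha : orderOf (g 7) = 7 := ho 7
  have h2 := Cfsg.Agent.H904.McLCent.seven h (zpowers (g 7)) (by rw [Nat.card_zpowers, ha])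
  rw [Cfsg.Agent.H904.SylOne.centralizer_zpowers_eq] at h2
  obtain ⟨hC, hN⟩ := h2
  have h7 : 7 ∣ Nat.card (centralizer ({g 7} : Set S)) := by
    have h2 : zpowers (g 7) ≤ centralizer ({g 7} : Set S) := by
      rw [zpowers_le, mem_centralizer_singleton_iff]
    have h3 := Subgroup.card_dvd_of_le h2
    rwa [Nat.card_zpowers, ha] at h3
  obtain ⟨k, hk⟩ := h7
  have hk2 : k ∣ 2 := by
    rw [hk, show (14 : ℕ) = 7 * 2 by norm_num] at hC
    exact Nat.dvd_of_mul_dvd_mul_left (by norm_num) hC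
  rcases (Nat.dvd_prime Nat.prime_two).1 hk2 with rfl | rfl
  · refine nball_of_three h (nb_of_dz (by norm_num) (by rw [hcard]; norm_num) ha (k := 1) (w := 6) ?_ ?_
      (fun i : Fin 10 => g i.castSucc) (fun i => by rw [ho]; exact ords_cop _) (ten_inj hg) (by norm_num))
    · rw [hk]
    · rw [hN]
  · have hn : ¬ IsConj (g 7) (g 7 ^ 6) := not_conj ha (e := 3) (by rw [hk, hN]) (by norm_num)
    refine nball_of_three h (nb_of_dz (by norm_num) (by rw [hcard]; norm_num) ha (k := 2) (w := 3) ?_ ?_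
      g (fun i => by rw [ho]; exact ords_cop _) (fun i j hij => ?_) (by norm_num))
    · rw [hk]
    · rw [hN]
    · rcases hg i j hij with h1 | ⟨rfl, rfl⟩ | ⟨rfl, rfl⟩
      · exact h1
      · rw [h10] at hij; exact absurd hij hn
      · rw [h10] at hij; exact absurd hij.symm hn

end Cfsg.Agent.H306.RIM.McL
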