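import Cfsg.Agent.H665.RIM.Defs
import Cfsg.Agent.H849.RIM.DzCount
import Cfsg.Agent.H306.QA.RatConj
import Cfsg.Agent.H95.StemCover

/-!
# S4816: defect zero characters of covers, the form `NB p m S` (helper306)

* `not_conj_pow`: `|N(⟨x⟩)| = |C(x)| e`, `x ~ x ^ k` implies `x ^ (k ^ e) = x`;
* `nb_of_dz`: the tool of helper849 as a statement `NB p m S`;
* `ker_dvd`: the order of the kernel divides the order of the multiplier.
-/

set_option autoImplicit false
set_option linter.unusedSectionVars false

namespace Cfsg.Agent.H306.RIM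

open Cfsg Subgroup Cfsg.Agent.H665.RIM

universe u v

/-- `x ~ x ^ k` implies `x ^ (k ^ e) = x`, `e = |N(⟨x⟩) : C(x)|` -/
theorem pow_of_conj {S : Type*} [Group S] [Finite S] {x : S} {e k : ℕ}
    (hN : Nat.card (normalizer ((zpowers x : Subgroup S) : Set S)) = Nat.card (centralizer ({x} : Set S)) * e)
    (h : IsConj x (x ^ k)) : x ^ (k ^ e) = x := by
  obtain ⟨g, hg⟩ := isConj_iff.1 h
  have hgN : g ∈ normalizer ((zpowers x : Subgroup S) : Set S) := by
    refine mem_normalizer_fintype fun n hn => ?_
    obtain ⟨i, rfl⟩ := mem_zpowers_iff.1 hn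
    show g * x ^ i * g⁻¹ ∈ zpowers x
    rw [← conj_zpow, hg]
    exact zpow_mem (pow_mem (mem_zpowers x) k) i
  have hit : ∀ n : ℕ, g ^ n * x * (g ^ n)⁻¹ = x ^ (k ^ n) := by
    intro n
    induction n with
    | zero => simp
    | succ n ih =>
      calc g ^ (n + 1) * x * (g ^ (n + 1))⁻¹ = g * (g ^ n * x * (g ^ n)⁻¹) * g⁻¹ := by rw [pow_succ']; group
        _ = (g * x * g⁻¹) ^ (k ^ n) := by rw [ih, ← conj_pow]
        _ = x ^ (k ^ (n + 1)) := by rw [hg, ← pow_mul, pow_succ']
  set f := Subgroup.normalizerMonoidHom (zpowers x) with hf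
  have hker : Nat.card f.ker = Nat.card (centralizer ({x} : Set S)) := H306.QA.card_ker_normalizerMonoidHom x
  have hr : Nat.card f.range = e := by
    have h1 := Subgroup.card_mul_index f.ker
    rw [Subgroup.index_ker, hker, hN] at h1
    exact Nat.eq_of_mul_eq_mul_left Nat.card_pos h1
  have h2 : f (⟨g, hgN⟩ ^ e) = 1 := by
    rw [map_pow]
    have h3 : (⟨f ⟨g, hgN⟩, ⟨_, rfl⟩⟩ : f.range) ^ Nat.card f.range = 1 := pow_card_eq_one'
    rw [hr] at h3
    exact congrArg Subtype.val h3
  have h4 : ((⟨g, hgN⟩ : normalizer ((zpowers x : Subgroup S) : Set S)) ^ e) ∈ f.ker := h2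
  have h5 : g ^ e * x * (g ^ e)⁻¹ = x := by
    have h6 := congrArg (fun σ : MulAut (zpowers x) => ((σ ⟨x, mem_zpowers x⟩ : zpowers x) : S)) h2
    simpa [hf] using h6
  rw [← hit e, h5]

/-- `x` is not conjugate to `x ^ k` -/
theorem not_conj {S : Type*} [Group S] [Finite S] {x : S} {p e k : ℕ} (hx : orderOf x = p)
    (hN : Nat.card (normalizer ((zpowers x : Subgroup S) : Set S)) = Nat.card (centralizer ({x} : Set S)) * e)
    (hk : k ^ e % p ≠ 1 % p) : ¬ IsConj x (x ^ k) := by
  intro h
  have h1 := pow_of_conj hN h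
  apply hk
  have h2 : x ^ (k ^ e) = x ^ 1 := by rw [h1, pow_one]
  rw [pow_eq_pow_iff_modEq, hx] at h2
  exact h2

theorem ord_pow {S : Type*} [Group S] {x : S} {n k : ℕ} (hx : orderOf x = n) (hk : n.Coprime k) :
    orderOf (x ^ k) = n := by
  rw [Nat.Coprime.orderOf_pow (by rw [hx]; exact hk), hx]

theorem order_isConj {S : Type*} [Group S] {x y : S} (h : IsConj x y) : orderOf x = orderOf y := by
  obtain ⟨c, hc⟩ := isConj_iff.1 h
  rw [← hc]
  exact (orderOf_injective (MulAut.conj c).toMonoidHom (MulAut.conj c).injective x).symm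

/-- the order of the kernel of a perfect central extension divides the order of the multiplier -/
theorem ker_dvd {S : Type u} [Group S] {T : Type v} [Group T] {M : ℕ} (hA : HasCyclicSchurMultiplier T M) (e : S ≃* T)
    {E : Type u} [Group E] (π : E →* S) (hπ : Function.Surjective π) (hc : π.ker ≤ center E) (hE : commutator E = ⊤) :
    Nat.card π.ker ∣ M := by
  have hk : (e.toMonoidHom.comp π).ker = π.ker := by
    ext x
    rw [MonoidHom.mem_ker, MonoidHom.mem_ker, MonoidHom.comp_apply]
    change e _ = 1 ↔ _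
    rw [map_eq_one_iff _ e.injective]
  have h := H95.StemCover.card_ker_dvd hA hE (e.toMonoidHom.comp π) (e.surjective.comp hπ) (by rw [hk]; exact hc)
  rw [hk] at h
  rwa [Nat.card_congr (Multiplicative.toAdd (α := ZMod M)), Nat.card_zmod] at h

/-- **The count of helper849 as `NB p m S`.**  `y` of order `p`, `|C(y)| = p k`, `|N(⟨y⟩)| = w p k`, and `n` classes of
elements of order prime to `m`. -/
theorem nb_of_dz {p m : ℕ} [Fact p.Prime] {S : Type u} [Group S] [Finite S] (hpm : ¬ p ∣ m)
    (hsq : ¬ p ^ 2 ∣ Nat.card S) {y : S} (hy : orderOf y = p) {k w : ℕ}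
    (hC : Nat.card (centralizer ({y} : Set S)) = p * k)
    (hN : Nat.card (normalizer ((zpowers y : Subgroup S) : Set S)) = w * (p * k)) {n : ℕ} (g : Fin n → S)
    (hg : ∀ i, (orderOf (g i)).Coprime m) (hinj : ∀ i j, IsConj (g i) (g j) → i = j)
    (hlt : k * (w ^ 2 + (p - 1)) < w * n) : NB p m S := by
  classical
  intro E _ _ π hπ hcen _ hm l _
  let f : E ⧸ π.ker ≃* S := QuotientGroup.quotientKerEquivOfSurjective π hπ
  have hinj' : Function.Injective fun i : Fin n => ConjClasses.mk (f.symm (g i)) := by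
    intro i j h
    apply hinj
    have h1 := ConjClasses.mk_eq_mk_iff_isConj.1 h
    have h2 := f.toMonoidHom.map_isConj h1
    simpa using h2
  have hC' : Nat.card (centralizer ({f.symm y} : Set (E ⧸ π.ker))) = p * k := by
    rw [← hC]
    refine Nat.card_congr (f.toEquiv.subtypeEquiv fun x => ?_)
    rw [mem_centralizer_singleton_iff, mem_centralizer_singleton_iff]
    show _ ↔ f x * y = y * f x
    constructor
    · intro h
      have := congrArg f h
      simpa using this
    · intro h
      apply f.injective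
      simpa using h
  have hmap : (zpowers (f.symm y)).map f.toMonoidHom = zpowers y := by
    rw [MonoidHom.map_zpowers]
    congr 1
    exact f.apply_symm_apply y
  have hN' : Nat.card (normalizer ((zpowers (f.symm y) : Subgroup (E ⧸ π.ker)) : Set (E ⧸ π.ker))) = w * (p * k) := by
    rw [← hN]
    refine Nat.card_congr (f.toEquiv.subtypeEquiv fun x => ?_)
    show x ∈ normalizer ((zpowers (f.symm y) : Subgroup (E ⧸ π.ker)) : Set (E ⧸ π.ker)) ↔
      f x ∈ normalizer ((zpowers y : Subgroup S) : Set S)
    rw [mem_normalizer_iff, mem_normalizer_iff]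
    have key : ∀ h : E ⧸ π.ker, h ∈ zpowers (f.symm y) ↔ f h ∈ zpowers y := by
      intro h
      rw [← hmap]
      exact ⟨fun h1 => mem_map_of_mem _ h1, fun ⟨a, ha, hb⟩ => by
        have : a = h := f.injective hb
        exact this ▸ ha⟩
    constructor
    · intro h a
      have := h (f.symm a)
      rw [key, key] at this
      simpa using this
    · intro h a
      rw [key, key, map_mul, map_mul, map_inv]
      exact h (f a)
  have hy' : orderOf (f.symm y) = p := by
    rw [← hy]
    exact orderOf_injective f.symm.toMonoidHom f.symm.injective y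
  obtain ⟨χ, hl, hd⟩ := H849.RIM.exists_dz_quot (p := p) hcen (by rw [hm]; exact hpm)
    (by rw [Nat.card_congr f.toEquiv]; exact hsq) hy' hC' hN' l
    (Finset.univ.image fun i : Fin n => ConjClasses.mk (f.symm (g i))) (by
      intro C hC
      obtain ⟨i, -, rfl⟩ := Finset.mem_image.1 hC
      refine ⟨_, rfl, ?_⟩
      rw [hm, show orderOf (f.symm (g i)) = orderOf (g i) from orderOf_injective f.symm.toMonoidHom f.symm.injective _]
      exact hg i) (by
      rw [Finset.card_image_of_injective _ hinj', Finset.card_univ, Fintype.card_fin]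
      exact hlt)
  refine ⟨χ, χ.2, fun z => ?_, hd⟩
  have := hl 1 z
  rwa [one_mul] at this

end Cfsg.Agent.H306.RIM
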